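import Mathlib

/-! Index computations for diagonal maps of `ℤⁿ`. -/

set_option autoImplicit false

namespace CompLatH7

open Finset

variable {n : ℕ}

/-- Sum of the coordinates. -/
noncomputable abbrev S (n : ℕ) : (Fin n → ℤ) →ₗ[ℤ] ℤ :=
  ∑ i : Fin n, (LinearMap.proj i : (Fin n → ℤ) →ₗ[ℤ] ℤ)

/-- Diagonal map. -/
noncomputable abbrev D (δ : Fin n → ℤ) : (Fin n → ℤ) →ₗ[ℤ] (Fin n → ℤ) :=
  Matrix.mulVecLin (Matrix.diagonal δ)

lemma D_apply (δ v : Fin n → ℤ) (i : Fin n) : D δ v i = δ i * v i := by
  simp [D, Matrix.mulVec_diagonal]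

lemma S_apply (v : Fin n → ℤ) : S n v = ∑ i, v i := by
  simp [S]

lemma D_injective (δ : Fin n → ℤ) (hδ : ∀ i, δ i ≠ 0) : Function.Injective (D δ) := by
  intro v w h
  funext i
  have := congrFun h i
  rw [D_apply, D_apply] at this
  exact mul_left_cancel₀ (hδ i) this

lemma natCard_quot {M : Type*} [AddCommGroup M] (N K : Submodule ℤ M) :
    Nat.card (K ⧸ N.comap K.subtype) = N.toAddSubgroup.relIndex K.toAddSubgroup := rfl

lemma index_range_D (δ : Fin n → ℤ) :
    (LinearMap.range (D δ)).toAddSubgroup.index = ∏ i, (δ i).natAbs := by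
  have h : (LinearMap.range (D δ)).toAddSubgroup =
      AddSubgroup.pi Set.univ (fun i => AddSubgroup.zmultiples (δ i)) := by
    ext v
    simp only [Submodule.mem_toAddSubgroup, LinearMap.mem_range, AddSubgroup.mem_pi, Set.mem_univ,
      forall_const, AddSubgroup.mem_zmultiples_iff]
    constructor
    · rintro ⟨w, rfl⟩ i
      exact ⟨w i, by rw [D_apply, smul_eq_mul, mul_comm]⟩
    · intro h
      choose w hw using h
      exact ⟨w, funext fun i => by rw [D_apply, ← hw i, smul_eq_mul, mul_comm]⟩
  rw [h, AddSubgroup.index_pi]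
  exact Finset.prod_congr rfl fun i _ => Int.index_zmultiples _

lemma range_S_D (δ : Fin n → ℤ) :
    (LinearMap.range (D δ)).toAddSubgroup.map (S n).toAddMonoidHom =
      AddSubgroup.zmultiples (univ.gcd δ) := by
  ext z
  simp only [AddSubgroup.mem_map, Submodule.mem_toAddSubgroup, LinearMap.mem_range,
    LinearMap.toAddMonoidHom_coe, AddSubgroup.mem_zmultiples_iff, exists_exists_eq_and]
  constructor
  · rintro ⟨w, rfl⟩
    rw [S_apply]
    obtain ⟨c, hc⟩ : univ.gcd δ ∣ ∑ i, D δ w i := Finset.dvd_sum fun i hi => by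
      rw [D_apply]
      exact dvd_mul_of_dvd_left (Finset.gcd_dvd hi) _
    exact ⟨c, by rw [hc, smul_eq_mul, mul_comm]⟩
  · rintro ⟨c, rfl⟩
    obtain ⟨a, ha⟩ := Finset.gcd_eq_sum_mul univ δ
    refine ⟨fun i => c * a i, ?_⟩
    rw [S_apply, smul_eq_mul, ha, Finset.mul_sum]
    refine Finset.sum_congr rfl fun i _ => ?_
    rw [D_apply]
    ring

lemma S_surjective (hn : 0 < n) : Function.Surjective (S n) := by
  intro z
  refine ⟨Pi.single ⟨0, hn⟩ z, ?_⟩
  rw [S_apply, Finset.sum_pi_single']
  simp

lemma main (hn : 0 < n) (δ : Fin n → ℤ) (hδ : ∀ i, δ i ≠ 0)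
    (f : (Fin n → ℤ) →ₗ[ℤ] (Fin n → ℤ)) (hf : S n ∘ₗ D δ ∘ₗ f = 0) :
    (LinearMap.range f).toAddSubgroup.relIndex (LinearMap.ker (S n ∘ₗ D δ)).toAddSubgroup *
        ∏ i, (δ i).natAbs =
      (univ.gcd δ).natAbs *
        (LinearMap.range (D δ ∘ₗ f)).toAddSubgroup.relIndex (LinearMap.ker (S n)).toAddSubgroup := by
  set K := (LinearMap.ker (S n)).toAddSubgroup with hK
  set R := (LinearMap.range (D δ)).toAddSubgroup with hR
  set P := (LinearMap.range (D δ ∘ₗ f)).toAddSubgroup with hP
  have hPK : P ≤ K ⊓ R := by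
    rintro _ ⟨w, rfl⟩
    exact ⟨LinearMap.congr_fun hf w, ⟨f w, rfl⟩⟩
  have h1 : P.relIndex (K ⊓ R) =
      (LinearMap.range f).toAddSubgroup.relIndex (LinearMap.ker (S n ∘ₗ D δ)).toAddSubgroup := by
    rw [← AddSubgroup.relIndex_map_map_of_injective (LinearMap.range f).toAddSubgroup
      (LinearMap.ker (S n ∘ₗ D δ)).toAddSubgroup (f := (D δ).toAddMonoidHom) (D_injective δ hδ)]
    congr 1
    · ext v
      simp [P, LinearMap.range_comp]
    · ext v
      simp only [AddSubgroup.mem_inf, hK, hR, Submodule.mem_toAddSubgroup, LinearMap.mem_ker,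
        LinearMap.mem_range, AddSubgroup.mem_map, LinearMap.toAddMonoidHom_coe,
        LinearMap.comp_apply]
      constructor
      · rintro ⟨hv, w, rfl⟩; exact ⟨w, hv, rfl⟩
      · rintro ⟨w, hw, rfl⟩; exact ⟨hw, w, rfl⟩
  have h2 : P.relIndex (K ⊓ R) * R.relIndex K = P.relIndex K := by
    rw [← AddSubgroup.inf_relIndex_left K R]
    exact AddSubgroup.relIndex_mul_relIndex _ _ _ hPK inf_le_left
  have h3 : R.relIndex K * (univ.gcd δ).natAbs = ∏ i, (δ i).natAbs := by
    rw [← index_range_D δ, ← Int.index_zmultiples, ← range_S_D δ, ← hR, AddSubgroup.index_map,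
      AddMonoidHom.range_eq_top_of_surjective _ (S_surjective hn), AddSubgroup.index_top, mul_one]
    have hker : (S n).toAddMonoidHom.ker = K := rfl
    rw [hker, ← AddSubgroup.relIndex_sup_right K R]
    rw [sup_comm K R]
    exact AddSubgroup.relIndex_mul_index le_sup_left
  rw [← h1, ← h3, ← h2]
  ring

lemma second (δ' : Fin n → ℤ) (hn : 0 < n) (hδ' : ∀ i, δ' i ≠ 0)
    (f : (Fin n → ℤ) →ₗ[ℤ] (Fin n → ℤ)) (hf : f δ' = 0)
    (hr : Module.finrank ℤ (LinearMap.range f) = n - 1) :
    (LinearMap.range (f ∘ₗ D δ')).toAddSubgroup.relIndex (LinearMap.range f).toAddSubgroup *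
        (univ.gcd δ').natAbs = ∏ i, (δ' i).natAbs := by
  obtain ⟨v, hv, hv1⟩ := Finset.extract_gcd δ' (s := univ)
    ⟨⟨0, hn⟩, Finset.mem_univ _⟩
  set d := univ.gcd δ' with hd
  have hd0 : d ≠ 0 := by
    intro h
    exact hδ' ⟨0, hn⟩ (Finset.gcd_eq_zero_iff.1 h _ (Finset.mem_univ _))
  have hv' : δ' = d • v := funext fun i => by rw [hv i (Finset.mem_univ i)]; rfl
  obtain ⟨a, ha⟩ := Finset.gcd_eq_sum_mul univ v
  rw [hv1] at ha
  have hfv : f v = 0 := by
    have h := hf
    rw [hv', map_smul] at h
    exact (smul_eq_zero.1 h).resolve_left hd0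
  have hker1 : Module.finrank ℤ (LinearMap.ker f) = 1 := by
    have h := Submodule.finrank_quotient_add_finrank (LinearMap.ker f)
    rw [LinearEquiv.finrank_eq f.quotKerEquivRange, hr, Module.finrank_pi, Fintype.card_fin] at h
    omega
  have hker : (LinearMap.ker f).toAddSubgroup = AddSubgroup.zmultiples v := by
    ext w
    rw [Submodule.mem_toAddSubgroup, LinearMap.mem_ker, AddSubgroup.mem_zmultiples_iff]
    constructor
    · intro hw
      obtain ⟨s, t, hst, hne⟩ : ∃ s t : ℤ, s • w + t • δ' = 0 ∧ (s ≠ 0 ∨ t ≠ 0) := by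
        have hli : ¬ LinearIndependent ℤ ![(⟨w, hw⟩ : LinearMap.ker f), ⟨δ', hf⟩] := by
          intro h
          have h' := h.fintype_card_le_finrank
          rw [Fintype.card_fin, hker1] at h'
          omega
        rw [LinearIndependent.pair_iff] at hli
        push Not at hli
        obtain ⟨s, t, hst, hne⟩ := hli
        refine ⟨s, t, congrArg Subtype.val hst, ?_⟩
        by_cases hs : s = 0
        · exact Or.inr (hne hs)
        · exact Or.inl hs
      have hs : s ≠ 0 := by
        intro hs
        rw [hs, zero_smul, zero_add] at hst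
        rcases hne with h | h
        · exact h hs
        · exact hδ' ⟨0, hn⟩ (congrFun ((smul_eq_zero.1 hst).resolve_left h) _)
      have hwi : ∀ i, s * w i = - t * d * v i := by
        intro i
        have := congrFun hst i
        rw [hv'] at this
        simp only [Pi.add_apply, Pi.smul_apply, smul_eq_mul, Pi.zero_apply] at this
        linarith
      have hsum : s * (∑ i, w i * a i) = - t * d := by
        calc _ = ∑ i, (s * w i) * a i := by
              rw [Finset.mul_sum]; exact Finset.sum_congr rfl fun i _ => by ring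
          _ = - t * d * ∑ i, v i * a i := by
              rw [Finset.mul_sum]; exact Finset.sum_congr rfl fun i _ => by rw [hwi]; ring
          _ = _ := by rw [← ha, mul_one]
      refine ⟨∑ i, w i * a i, funext fun i => mul_left_cancel₀ hs ?_⟩
      rw [hwi, Pi.smul_apply, smul_eq_mul, ← hsum, mul_assoc]
    · rintro ⟨c, rfl⟩
      rw [map_smul, hfv, smul_zero]
  set R := (LinearMap.range (D δ')).toAddSubgroup with hR
  have h1 : (LinearMap.range (f ∘ₗ D δ')).toAddSubgroup.relIndex (LinearMap.range f).toAddSubgroup =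
      (R ⊔ AddSubgroup.zmultiples v).index := by
    rw [← hker, show (LinearMap.ker f).toAddSubgroup = f.toAddMonoidHom.ker from rfl,
      ← AddSubgroup.comap_map_eq, AddSubgroup.index_comap]
    congr 1
    ext w
    simp [R, LinearMap.range_comp]
  have h2 : R.relIndex (AddSubgroup.zmultiples v) = d.natAbs := by
    let g : ℤ →+ (Fin n → ℤ) := zmultiplesHom _ v
    have hg : AddSubgroup.zmultiples v = g.range := (AddSubgroup.range_zmultiplesHom v).symm
    rw [hg, ← AddSubgroup.index_comap]
    have : R.comap g = AddSubgroup.zmultiples d := by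
      ext c
      rw [AddSubgroup.mem_comap, AddSubgroup.mem_zmultiples_iff, hR, Submodule.mem_toAddSubgroup,
        LinearMap.mem_range]
      constructor
      · rintro ⟨u, hu⟩
        refine ⟨∑ i, u i * v i * a i, ?_⟩
        have hc : ∀ i, c * v i = d * (u i * v i) := fun i => by
          have := congrFun hu i
          rw [D_apply, hv i (Finset.mem_univ i)] at this
          simp only [g, zmultiplesHom_apply, Pi.smul_apply, smul_eq_mul] at this
          rw [← this]; ring
        calc _ = d * ∑ i, u i * v i * a i := by rw [smul_eq_mul, mul_comm]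
          _ = ∑ i, (d * (u i * v i)) * a i := by
              rw [Finset.mul_sum]; exact Finset.sum_congr rfl fun i _ => by ring
          _ = c * ∑ i, v i * a i := by
              rw [Finset.mul_sum]; exact Finset.sum_congr rfl fun i _ => by rw [← hc]; ring
          _ = c := by rw [← ha, mul_one]
      · rintro ⟨e, rfl⟩
        refine ⟨fun _ => e, funext fun i => ?_⟩
        rw [D_apply, hv i (Finset.mem_univ i)]
        simp only [g, zmultiplesHom_apply, Pi.smul_apply, smul_eq_mul]
        ring
    rw [this, Int.index_zmultiples]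
  rw [h1, ← h2, ← index_range_D, ← hR, ← AddSubgroup.relIndex_sup_left (K := R) (H := AddSubgroup.zmultiples v),
    mul_comm]
  exact AddSubgroup.relIndex_mul_index le_sup_left

end CompLatH7
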